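import Mathlib
import Cfsg.Agent.Lib.Helper49.RUW.Defs
import Cfsg.Agent.Lib.Helper25.RUW.OddAut

/-!
# RUW package [TOWER]

The series `W = C_T(Z₃) ≤ X₁ ≤ A = C_T(Z₂) ≤ T` with steps of index at most two.
-/

set_option autoImplicit false

namespace Cfsg.Agent.Lib.Helper25.RUW

open Cfsg.Agent.Lib.Helper49.RUW

universe u

section

variable {T : Type u} [Group T]

theorem cg_mul (a b x : T) : cg (a * b) x = cg a x * (a * cg b x * a⁻¹) := by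
  unfold cg; group

theorem cg_one_left (x : T) : cg 1 x = 1 := by unfold cg; group

theorem cg_inv_left (a x : T) : cg a⁻¹ x = a⁻¹ * (cg a x)⁻¹ * a := by unfold cg; group

theorem cg_conj (t a z : T) : cg (t * a * t⁻¹) z = t * cg a (t⁻¹ * z * t) * t⁻¹ := by
  unfold cg; group

theorem cg_eq_one_iff (a x : T) : cg a x = 1 ↔ x * a = a * x := by
  unfold cg
  rw [inv_mul_eq_one, eq_comm, mul_inv_eq_iff_eq_mul, eq_comm]

theorem pick_rep (H K : Subgroup T)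
    (hP : ∀ a ∈ K, ∀ b ∈ K, a ∉ H → b ∉ H → a * b ∈ H) :
    ∃ g ∈ K, g * g ∈ H ∧ ∀ a ∈ K, a ∈ H ∨ a * g⁻¹ ∈ H := by
  by_cases h : ∀ a ∈ K, a ∈ H
  · exact ⟨1, K.one_mem, by simp, fun a ha => Or.inl (h a ha)⟩
  · push Not at h
    obtain ⟨g, hgK, hgH⟩ := h
    refine ⟨g, hgK, hP g hgK g hgK hgH hgH, fun a ha => ?_⟩
    by_cases haH : a ∈ H
    · exact Or.inl haH
    · exact Or.inr (hP a ha g⁻¹ (K.inv_mem hgK) haH (by rwa [Subgroup.inv_mem_iff]))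

theorem relIndex_le_two (H K : Subgroup T)
    (hP : ∀ a ∈ K, ∀ b ∈ K, a ∉ H → b ∉ H → a * b ∈ H) : H.relIndex K ≤ 2 := by
  by_cases h : ∀ a ∈ K, a ∈ H
  · have h1 : K ≤ H := h
    rw [Subgroup.relIndex_eq_one.mpr h1]
    norm_num
  · push Not at h
    obtain ⟨g, hgK, hgH⟩ := h
    have h2 : (H.subgroupOf K).index = 2 := by
      rw [Subgroup.index_eq_two_iff]
      refine ⟨⟨g⁻¹, K.inv_mem hgK⟩, fun b => ?_⟩
      simp only [Subgroup.mem_subgroupOf, Subgroup.coe_mul]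
      by_cases hb : (b : T) ∈ H
      · right
        refine ⟨hb, fun h3 => hgH ?_⟩
        have h4 := H.mul_mem (H.inv_mem hb) h3
        simpa using h4
      · left
        exact ⟨hP b b.2 g⁻¹ (K.inv_mem hgK) hb (by rwa [Subgroup.inv_mem_iff]), hb⟩
    exact h2.le

theorem tower_core [Finite T] (Z1 Z2 Z3 : Subgroup T) (hZ1n : Z1.Normal) (hZ2n : Z2.Normal)
    (hZ3n : Z3.Normal) (h12 : Z1 ≤ Z2) (h23 : Z2 ≤ Z3)
    (hc1 : Nat.card Z1 = 2) (hc2 : Nat.card Z2 = 4) (hc3 : Nat.card Z3 = 8)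
    (hcen : ∀ z ∈ Z1, ∀ t : T, t * z = z * t)
    (h21 : ∀ z ∈ Z2, ∀ t : T, cg t z ∈ Z1)
    (h32 : ∀ z ∈ Z3, ∀ t : T, cg t z ∈ Z2) :
    ∃ (X₁ : Subgroup T) (g₁ g₂ g₃ : T),
      Series (Subgroup.centralizer (Z3 : Set T)) X₁ (Subgroup.centralizer (Z2 : Set T))
        g₁ g₂ g₃ ∧
      (∀ a ∈ Subgroup.centralizer (Z2 : Set T), ∀ b ∈ Subgroup.centralizer (Z2 : Set T),
          a * b * a⁻¹ * b⁻¹ ∈ Subgroup.centralizer (Z3 : Set T)) ∧
      ((∀ z ∈ Z2, z * z = 1) → ∀ a ∈ Subgroup.centralizer (Z2 : Set T),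
          a * a ∈ Subgroup.centralizer (Z3 : Set T)) ∧
      (Subgroup.centralizer (Z3 : Set T)).index ≤ 8 := by
  classical
  have P01 : ∀ u ∈ Z1, ∀ v ∈ Z1, u ≠ 1 → v ≠ 1 → u * v = 1 := by
    intro u hu v hv hu1 hv1
    have h1 := mul_mem_of_card_two ⊥ Z1 bot_le (by rw [hc1, Subgroup.card_bot]) hu hv
      (by simpa using hu1) (by simpa using hv1)
    simpa using h1
  have P12 : ∀ u ∈ Z2, ∀ v ∈ Z2, u ∉ Z1 → v ∉ Z1 → u * v ∈ Z1 := fun u hu v hv hu1 hv1 =>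
    mul_mem_of_card_two Z1 Z2 h12 (by rw [hc2, hc1]) hu hv hu1 hv1
  have P23 : ∀ u ∈ Z3, ∀ v ∈ Z3, u ∉ Z2 → v ∉ Z2 → u * v ∈ Z2 := fun u hu v hv hu1 hv1 =>
    mul_mem_of_card_two Z2 Z3 h23 (by rw [hc3, hc2]) hu hv hu1 hv1
  obtain ⟨x₂, hx₂, hx₂'⟩ : ∃ x ∈ Z2, x ∉ Z1 := by
    by_contra hcon
    push Not at hcon
    have h1 : Z2 ≤ Z1 := hcon
    have h2 := Subgroup.card_le_of_le h1
    omega
  obtain ⟨x₃, hx₃, hx₃'⟩ : ∃ x ∈ Z3, x ∉ Z2 := by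
    by_contra hcon
    push Not at hcon
    have h1 : Z3 ≤ Z2 := hcon
    have h2 := Subgroup.card_le_of_le h1
    omega
  have hAn : (Subgroup.centralizer (Z2 : Set T)).Normal := inferInstance
  have hWn : (Subgroup.centralizer (Z3 : Set T)).Normal := inferInstance
  have hA : ∀ a : T, a ∈ Subgroup.centralizer (Z2 : Set T) ↔ cg a x₂ = 1 := by
    intro a
    rw [cg_eq_one_iff, Subgroup.mem_centralizer_iff]
    constructor
    · intro h; exact h x₂ hx₂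
    · intro h z hz
      by_cases hz1 : z ∈ Z1
      · exact (hcen z hz1 a).symm
      · have h1 := P12 z hz x₂⁻¹ (Z2.inv_mem hx₂) hz1 (by rwa [Subgroup.inv_mem_iff])
        have h2 := hcen _ h1 a
        calc z * a = (z * x₂⁻¹) * (x₂ * a) := by group
          _ = (z * x₂⁻¹) * (a * x₂) := by rw [h]
          _ = ((z * x₂⁻¹) * a) * x₂ := by group
          _ = (a * (z * x₂⁻¹)) * x₂ := by rw [h2]
          _ = a * z := by group
  have hW : ∀ a : T, a ∈ Subgroup.centralizer (Z3 : Set T) ↔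
      a ∈ Subgroup.centralizer (Z2 : Set T) ∧ cg a x₃ = 1 := by
    intro a
    rw [cg_eq_one_iff]
    constructor
    · intro h
      exact ⟨Subgroup.centralizer_le (SetLike.coe_subset_coe.mpr h23) h,
        (Subgroup.mem_centralizer_iff.mp h) x₃ hx₃⟩
    · rintro ⟨hA', h⟩
      rw [Subgroup.mem_centralizer_iff] at hA' ⊢
      intro z hz
      by_cases hz2 : z ∈ Z2
      · exact hA' z hz2
      · have h1 := P23 z hz x₃⁻¹ (Z3.inv_mem hx₃) hz2 (by rwa [Subgroup.inv_mem_iff])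
        have h2 := hA' _ h1
        calc z * a = (z * x₃⁻¹) * (x₃ * a) := by group
          _ = (z * x₃⁻¹) * (a * x₃) := by rw [h]
          _ = ((z * x₃⁻¹) * a) * x₃ := by group
          _ = (a * (z * x₃⁻¹)) * x₃ := by rw [h2]
          _ = a * z := by group
  generalize hAdef : Subgroup.centralizer (Z2 : Set T) = A at *
  generalize hWdef : Subgroup.centralizer (Z3 : Set T) = W at *
  let X₁ : Subgroup T :=
    { carrier := {a | a ∈ A ∧ ∀ z ∈ Z3, cg a z ∈ Z1}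
      one_mem' := ⟨A.one_mem, fun z _ => by rw [cg_one_left]; exact Z1.one_mem⟩
      mul_mem' := by
        rintro a b ⟨ha, ha'⟩ ⟨hb, hb'⟩
        refine ⟨A.mul_mem ha hb, fun z hz => ?_⟩
        rw [cg_mul]
        exact Z1.mul_mem (ha' z hz) (hZ1n.conj_mem _ (hb' z hz) a)
      inv_mem' := by
        rintro a ⟨ha, ha'⟩
        refine ⟨A.inv_mem ha, fun z hz => ?_⟩
        rw [cg_inv_left]
        have h1 := hZ1n.conj_mem _ (Z1.inv_mem (ha' z hz)) a⁻¹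
        simpa using h1 }
  have hX₁n : X₁.Normal := by
    constructor
    rintro a ⟨ha, ha'⟩ t
    refine ⟨hAn.conj_mem a ha t, fun z hz => ?_⟩
    rw [cg_conj]
    apply hZ1n.conj_mem
    apply ha'
    have h1 := hZ3n.conj_mem z hz t⁻¹
    simpa using h1
  have hAc : ∀ a ∈ A, ∀ z ∈ Z2, z * a = a * z := by
    intro a ha z hz
    rw [← hAdef] at ha
    exact Subgroup.mem_centralizer_iff.mp ha z hz
  have hX' : ∀ a ∈ A, cg a x₃ ∈ Z1 → a ∈ X₁ := by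
    intro a ha h
    refine ⟨ha, fun z hz => ?_⟩
    by_cases hz2 : z ∈ Z2
    · have h1 : cg a z = 1 := (cg_eq_one_iff a z).mpr (hAc a ha z hz2)
      rw [h1]; exact Z1.one_mem
    · have h1 := P23 z hz x₃⁻¹ (Z3.inv_mem hx₃) hz2 (by rwa [Subgroup.inv_mem_iff])
      have h2 := hAc a ha _ h1
      have h3 : cg a z = cg a x₃ := by
        unfold cg
        calc z⁻¹ * (a * z * a⁻¹)
            = x₃⁻¹ * (z * x₃⁻¹)⁻¹ * (a * (z * x₃⁻¹)) * x₃ * a⁻¹ := by group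
          _ = x₃⁻¹ * (z * x₃⁻¹)⁻¹ * ((z * x₃⁻¹) * a) * x₃ * a⁻¹ := by rw [h2]
          _ = x₃⁻¹ * (a * x₃ * a⁻¹) := by group
      rw [h3]; exact h
  have hζ : ∀ a ∈ A, ∀ b : T, cg (a * b) x₃ = cg a x₃ * cg b x₃ := by
    intro a ha b
    rw [cg_mul]
    have h1 := hAc a ha _ (h32 x₃ hx₃ b)
    rw [← h1]; group
  have hη : ∀ a b : T, cg (a * b) x₂ = cg a x₂ * cg b x₂ := by
    intro a b
    rw [cg_mul, hcen _ (h21 x₂ hx₂ b) a]; group
  have PA : ∀ a ∈ (⊤ : Subgroup T), ∀ b ∈ (⊤ : Subgroup T), a ∉ A → b ∉ A → a * b ∈ A := by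
    intro a _ b _ ha hb
    rw [hA] at ha hb ⊢
    rw [hη]
    exact P01 _ (h21 x₂ hx₂ a) _ (h21 x₂ hx₂ b) ha hb
  have PX : ∀ a ∈ A, ∀ b ∈ A, a ∉ X₁ → b ∉ X₁ → a * b ∈ X₁ := by
    intro a ha b hb ha' hb'
    apply hX' _ (A.mul_mem ha hb)
    rw [hζ a ha]
    exact P12 _ (h32 x₃ hx₃ a) _ (h32 x₃ hx₃ b) (fun h => ha' (hX' a ha h))
      (fun h => hb' (hX' b hb h))
  have PW : ∀ a ∈ X₁, ∀ b ∈ X₁, a ∉ W → b ∉ W → a * b ∈ W := by
    rintro a ⟨ha, ha1⟩ b ⟨hb, hb1⟩ ha' hb'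
    rw [hW] at ha' hb' ⊢
    refine ⟨A.mul_mem ha hb, ?_⟩
    rw [hζ a ha]
    exact P01 _ (ha1 x₃ hx₃) _ (hb1 x₃ hx₃) (fun h => ha' ⟨ha, h⟩) (fun h => hb' ⟨hb, h⟩)
  have hWX : W ≤ X₁ := by
    intro a ha
    have ha2 := ha
    rw [hW] at ha
    refine ⟨ha.1, fun z hz => ?_⟩
    rw [← hWdef] at ha2
    have h1 : cg a z = 1 := (cg_eq_one_iff a z).mpr (Subgroup.mem_centralizer_iff.mp ha2 z hz)
    rw [h1]; exact Z1.one_mem
  have hXA : X₁ ≤ A := fun a ha => ha.1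
  have hZ2ab : ∀ u ∈ Z2, ∀ v ∈ Z2, u * v = v * u := by
    intro u hu v hv
    by_cases hu1 : u ∈ Z1
    · exact (hcen u hu1 v).symm
    · by_cases hv1 : v ∈ Z1
      · exact hcen v hv1 u
      · have h1 := P12 u hu v⁻¹ (Z2.inv_mem hv) hu1 (by rwa [Subgroup.inv_mem_iff])
        have h2 := hcen _ h1 v
        calc u * v = (u * v⁻¹) * v * v := by group
          _ = v * (u * v⁻¹) * v := by rw [h2]
          _ = v * u := by group
  obtain ⟨g₁, hg₁, hsq₁, hcov₁⟩ := pick_rep W X₁ PW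
  obtain ⟨g₂, hg₂, hsq₂, hcov₂⟩ := pick_rep X₁ A PX
  obtain ⟨g₃, -, hsq₃, hcov₃⟩ := pick_rep A ⊤ PA
  refine ⟨X₁, g₁, g₂, g₃, ⟨hWX, hXA, hWn, hX₁n, hAn, hg₁, hg₂, hsq₁, hsq₂, hsq₃, hcov₁, hcov₂,
    fun t => hcov₃ t (Subgroup.mem_top t)⟩, ?_, ?_, ?_⟩
  · intro a ha b hb
    rw [hW]
    refine ⟨A.mul_mem (A.mul_mem (A.mul_mem ha hb) (A.inv_mem ha)) (A.inv_mem hb), ?_⟩
    have hp : cg a x₃ * cg a⁻¹ x₃ = 1 := by rw [← hζ a ha, mul_inv_cancel, cg_one_left]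
    have hq : cg b x₃ * cg b⁻¹ x₃ = 1 := by rw [← hζ b hb, mul_inv_cancel, cg_one_left]
    rw [hζ _ (A.mul_mem (A.mul_mem ha hb) (A.inv_mem ha)), hζ _ (A.mul_mem ha hb), hζ a ha]
    have hcomm := hZ2ab _ (h32 x₃ hx₃ b) _ (h32 x₃ hx₃ a⁻¹)
    calc cg a x₃ * cg b x₃ * cg a⁻¹ x₃ * cg b⁻¹ x₃
        = cg a x₃ * (cg b x₃ * cg a⁻¹ x₃) * cg b⁻¹ x₃ := by group
      _ = cg a x₃ * (cg a⁻¹ x₃ * cg b x₃) * cg b⁻¹ x₃ := by rw [hcomm]
      _ = (cg a x₃ * cg a⁻¹ x₃) * (cg b x₃ * cg b⁻¹ x₃) := by group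
      _ = 1 := by rw [hp, hq, one_mul]
  · intro hsq a ha
    rw [hW]
    exact ⟨A.mul_mem ha ha, by rw [hζ a ha]; exact hsq _ (h32 x₃ hx₃ a)⟩
  · have h1 := relIndex_le_two W X₁ PW
    have h2 := relIndex_le_two X₁ A PX
    have h3 := relIndex_le_two A ⊤ PA
    have e1 := Subgroup.relIndex_mul_relIndex (H := W) (K := X₁) (L := A) hWX hXA
    have e2 := Subgroup.relIndex_mul_relIndex (H := W) (K := A) (L := ⊤) (hWX.trans hXA) le_top
    simp only [Subgroup.relIndex_top_right] at e2 h3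
    rw [← e2, ← e1]
    calc W.relIndex X₁ * X₁.relIndex A * A.index ≤ 2 * 2 * 2 :=
          Nat.mul_le_mul (Nat.mul_le_mul h1 h2) h3
      _ = 8 := by norm_num

end

/-- **[TOWER]** the series `W = C_T(Z₃) ≤ X₁ ≤ A = C_T(Z₂) ≤ T`. -/
theorem pkgTower : PkgTower.{u} := by
  intro T _ _ _ hc1 hc2 hc3
  have hmono := Subgroup.upperCentralSeries_mono T
  refine tower_core (Subgroup.upperCentralSeries T 1) (Subgroup.upperCentralSeries T 2)
    (Subgroup.upperCentralSeries T 3) inferInstance inferInstance inferInstance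
    (hmono (by norm_num)) (hmono (by norm_num)) hc1 hc2 hc3 ?_ ?_ ?_
  · intro z hz t
    rw [Subgroup.upperCentralSeries_one] at hz
    exact Subgroup.mem_center_iff.mp hz t
  · intro z hz t
    have h1 := Subgroup.mem_upperCentralSeries_succ_iff.mp
      ((Subgroup.upperCentralSeries T 2).inv_mem hz) t
    have e : cg t z = z⁻¹ * t * z⁻¹⁻¹ * t⁻¹ := by unfold cg; group
    rw [e]; exact h1
  · intro z hz t
    have h1 := Subgroup.mem_upperCentralSeries_succ_iff.mp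
      ((Subgroup.upperCentralSeries T 3).inv_mem hz) t
    have e : cg t z = z⁻¹ * t * z⁻¹⁻¹ * t⁻¹ := by unfold cg; group
    rw [e]; exact h1

end Cfsg.Agent.Lib.Helper25.RUW
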